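import Groth.Agent.Lib.MilnorSh16.Seq
import Groth.Agent.Lib.SiteRlim16.Covers
import Mathlib.Algebra.Category.Grp.Limits
import Mathlib.Algebra.Category.Grp.AB
import Mathlib.CategoryTheory.Sites.LocallyBijective
import Mathlib.CategoryTheory.Abelian.FunctorCategory
import Mathlib.CategoryTheory.Sites.Abelian
import Mathlib.Algebra.Homology.QuasiIso
import Mathlib.Algebra.Homology.HomologicalComplexLimits
import Mathlib.CategoryTheory.Preadditive.FunctorCategory

/-! Cohomology sheaves of the limit of a tower of complexes of sheaves. -/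

universe u

open CategoryTheory CategoryTheory.Limits Opposite

set_option linter.style.haveILetI false
set_option backward.isDefEq.respectTransparency false
set_option backward.isDefEq.respectTransparency.types false

namespace Groth.Agent.MilnorSh16

variable {C : Type u} [SmallCategory C] (J : GrothendieckTopology C)

lemma W_of_bijective_on_cover {P Q : Cᵒᵖ ⥤ AddCommGrpCat.{u}} (ψ : P ⟶ Q) (B : Set C)
    (hB : ∀ U : C, ∃ (ι : Type u) (Y : ι → C) (f : ∀ i, Y i ⟶ U), Sieve.ofArrows Y f ∈ J U ∧ ∀ i, Y i ∈ B)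
    (h : ∀ U ∈ B, Function.Bijective (ψ.app (op U))) : J.W ψ := by
  rw [J.W_iff_isLocallyBijective]
  refine ⟨⟨fun {X} x y e => ?_⟩, ⟨fun {U} s => ?_⟩⟩
  · obtain ⟨S, hS, hSf⟩ := SiteRlim.factor_of_cover B hB X.unop
    refine J.superset_covering (fun V g hg => ?_) hS
    obtain ⟨W, p, q, hW, rfl⟩ := hSf g hg
    change P.map (q.op ≫ p.op) x = P.map (q.op ≫ p.op) y
    rw [CategoryTheory.Functor.map_comp_apply, CategoryTheory.Functor.map_comp_apply]
    congr 1
    apply (h W hW).1
    rw [NatTrans.naturality_apply, NatTrans.naturality_apply, e]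
  · obtain ⟨S, hS, hSf⟩ := SiteRlim.factor_of_cover B hB U
    refine J.superset_covering (fun V g hg => ?_) hS
    obtain ⟨W, p, q, hW, rfl⟩ := hSf g hg
    obtain ⟨x, hx⟩ := (h W hW).2 (Q.map q.op s)
    refine ⟨P.map p.op x, ?_⟩
    rw [NatTrans.naturality_apply, hx, op_comp, CategoryTheory.Functor.map_comp_apply]

/-- the underlying complexes of presheaves -/
noncomputable abbrev toPsh : CochainComplex (Sheaf J AddCommGrpCat.{u}) ℤ ⥤
    CochainComplex (Cᵒᵖ ⥤ AddCommGrpCat.{u}) ℤ :=
  (sheafToPresheaf J AddCommGrpCat.{u}).mapHomologicalComplex _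

theorem isIso_homologyMap_of_bijective {K L : CochainComplex (Sheaf J AddCommGrpCat.{u}) ℤ}
    (φ : K ⟶ L) (m : ℤ) (B : Set C)
    (hB : ∀ U : C, ∃ (ι : Type u) (Y : ι → C) (f : ∀ i, Y i ⟶ U), Sieve.ofArrows Y f ∈ J U ∧ ∀ i, Y i ∈ B)
    (h : ∀ U ∈ B, Function.Bijective
      (HomologicalComplex.homologyMap ((CohCx.sectCx J U).map φ) m)) :
    IsIso (HomologicalComplex.homologyMap φ m) := by
  let ψ := HomologicalComplex.homologyMap ((toPsh J).map φ) m
  have hψ : J.W ψ := by
    refine W_of_bijective_on_cover J ψ B hB fun U hU => ?_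
    let ev := (evaluation Cᵒᵖ AddCommGrpCat.{u}).obj (op U)
    have e := ShortComplex.mapHomologyIso_hom_naturality
      ((HomologicalComplex.shortComplexFunctor (Cᵒᵖ ⥤ AddCommGrpCat.{u}) (ComplexShape.up ℤ) m).map
        ((toPsh J).map φ)) ev
    have e' : ψ.app (op U) = ((((toPsh J).obj K).sc m).mapHomologyIso ev).inv ≫
        HomologicalComplex.homologyMap ((CohCx.sectCx J U).map φ) m ≫
        ((((toPsh J).obj L).sc m).mapHomologyIso ev).hom := by
      rw [Iso.eq_inv_comp]
      exact e.symm
    haveI : IsIso (HomologicalComplex.homologyMap ((CohCx.sectCx J U).map φ) m) :=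
      (ConcreteCategory.isIso_iff_bijective _).2 (h U hU)
    haveI : IsIso (ψ.app (op U)) := by rw [e']; infer_instance
    exact ConcreteCategory.bijective_of_isIso (ψ.app (op U))
  let a := presheafToSheaf J AddCommGrpCat.{u}
  haveI : a.Additive := (sheafificationAdjunction J AddCommGrpCat.{u}).left_adjoint_additive
  haveI : PreservesFiniteLimits a := inferInstance
  haveI : PreservesFiniteColimits a :=
    haveI := ((sheafificationAdjunction J AddCommGrpCat.{u}).leftAdjoint_preservesColimits :
      PreservesColimitsOfSize.{0, 0} _)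
    PreservesColimitsOfSize.preservesFiniteColimits _
  haveI : IsIso (a.map ψ) := by
    have := hψ
    rw [GrothendieckTopology.W_iff] at this
    exact this
  let am := a.mapHomologicalComplex (ComplexShape.up ℤ)
  have e := ShortComplex.mapHomologyIso_hom_naturality
      ((HomologicalComplex.shortComplexFunctor (Cᵒᵖ ⥤ AddCommGrpCat.{u}) (ComplexShape.up ℤ) m).map
        ((toPsh J).map φ)) a
  have e' : HomologicalComplex.homologyMap (am.map ((toPsh J).map φ)) m =
      ((((toPsh J).obj K).sc m).mapHomologyIso a).hom ≫ a.map ψ ≫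
        ((((toPsh J).obj L).sc m).mapHomologyIso a).inv := by
    rw [← Category.assoc, Iso.eq_comp_inv]
    exact e
  haveI : IsIso (HomologicalComplex.homologyMap (am.map ((toPsh J).map φ)) m) := by
    rw [e']; infer_instance
  let u (M : CochainComplex (Sheaf J AddCommGrpCat.{u}) ℤ) : am.obj ((toPsh J).obj M) ⟶ M :=
    { f := fun i => (sheafificationAdjunction J AddCommGrpCat.{u}).counit.app (M.X i)
      comm' := fun i j _ => ((sheafificationAdjunction J AddCommGrpCat.{u}).counit.naturality (M.d i j)).symm }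
  haveI hu : ∀ M, IsIso (u M) := fun M => by
    haveI : ∀ i, IsIso ((u M).f i) := fun i =>
      inferInstanceAs (IsIso ((sheafificationAdjunction J AddCommGrpCat.{u}).counit.app (M.X i)))
    exact HomologicalComplex.Hom.isIso_of_components (u M)
  have hn : am.map ((toPsh J).map φ) ≫ u L = u K ≫ φ := HomologicalComplex.hom_ext _ _ fun i =>
    (sheafificationAdjunction J AddCommGrpCat.{u}).counit.naturality (φ.f i)
  have : IsIso (HomologicalComplex.homologyMap (u K) m ≫ HomologicalComplex.homologyMap φ m) := by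
    rw [← HomologicalComplex.homologyMap_comp, ← hn, HomologicalComplex.homologyMap_comp]
    infer_instance
  exact IsIso.of_isIso_comp_left (HomologicalComplex.homologyMap (u K) m) _

theorem isIso_homologyMap_limit
    (F : ℕ → CochainComplex (Sheaf J AddCommGrpCat.{u}) ℤ) (t : ∀ n, F (n + 1) ⟶ F n) (m : ℤ)
    (B : Set C)
    (hB : ∀ U : C, ∃ (ι : Type u) (Y : ι → C) (f : ∀ i, Y i ⟶ U), Sieve.ofArrows Y f ∈ J U ∧ ∀ i, Y i ∈ B)
    (n₀ : ℕ)
    (ha : ∀ U ∈ B, ∀ j : ℤ, (j = m - 2 ∨ j = m - 1) →
      CohCx.LimOneIsZero (fun n => ((F n).X j).obj.obj (op U)) (fun n => (((t n).f j).hom.app (op U)).hom))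
    (hb : ∀ U ∈ B, CohCx.LimOneIsZero
      (fun n => ((CohCx.sectCx J U).obj (F n)).homology (m - 1))
      (fun n => (HomologicalComplex.homologyMap ((CohCx.sectCx J U).map (t n)) (m - 1)).hom))
    (hc : ∀ U ∈ B, ∀ k : ℕ, IsIso (HomologicalComplex.homologyMap
      ((CohCx.sectCx J U).map (CohCx.transition F t n₀ k)) m)) :
    IsIso (HomologicalComplex.homologyMap (limit.π (CohCx.opSequence F t) (op n₀)) m) := by
  refine isIso_homologyMap_of_bijective J _ m B hB fun U hU => ?_
  obtain ⟨k, rfl⟩ : ∃ k, m = k + 1 + 1 := ⟨m - 2, by omega⟩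
  let S := CohCx.sectCx J U
  have htr : ∀ l, S.map (CohCx.transition F t n₀ l) =
      CohCx.transition (fun n => S.obj (F n)) (fun n => S.map (t n)) n₀ l := by
    intro l
    induction l with
    | zero => exact S.map_id _
    | succ l ih => exact (S.map_comp _ _).trans (congrArg (_ ≫ ·) ih)
  have hp : ∀ n, S.map (limit.π (CohCx.opSequence F t) (op (n + 1))) ≫ S.map (t n) =
      S.map (limit.π (CohCx.opSequence F t) (op n)) := fun n => by
    rw [← S.map_comp, ← limit.w (CohCx.opSequence F t) (homOfLE (Nat.le_add_right n 1)).op,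
      Functor.ofOpSequence_map_homOfLE_succ]
  -- sections in each degree are limits
  let Ψ (j : ℤ) : CochainComplex (Sheaf J AddCommGrpCat.{u}) ℤ ⥤ Type u :=
    HomologicalComplex.eval _ (ComplexShape.up ℤ) j ⋙ sheafToPresheaf J AddCommGrpCat.{u} ⋙
      (evaluation Cᵒᵖ AddCommGrpCat.{u}).obj (op U) ⋙ forget AddCommGrpCat.{u}
  have hlim : ∀ j, IsLimit ((Ψ j).mapCone (limit.cone (CohCx.opSequence F t))) := fun j =>
    isLimitOfPreserves (Ψ j) (limit.isLimit _)
  refine bijective_homologyMap_lim (A := fun n => S.obj (F n)) (t := fun n => S.map (t n))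
    (fun n => S.map (limit.π (CohCx.opSequence F t) (op n))) hp
    (fun j x hx => ?_) (fun j x hx => ?_) k n₀ ?_ ?_ ?_ ?_
  · refine (Types.isLimitEquivSections (hlim j)).injective (a₁ := x)
      (a₂ := (0 : (S.obj (limit (CohCx.opSequence F t))).X j)) (Subtype.ext (funext fun n => ?_))
    exact (hx n.unop).trans (map_zero ((S.map (limit.π (CohCx.opSequence F t) n)).f j).hom).symm
  · have hsec : (fun n : ℕᵒᵖ => (x n.unop : (CohCx.opSequence F t ⋙ Ψ j).obj n)) ∈
        (CohCx.opSequence F t ⋙ Ψ j).sections := by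
      intro a b f
      obtain ⟨a⟩ := a
      obtain ⟨b⟩ := b
      obtain h : b ≤ a := leOfHom f.unop
      obtain rfl : f = (homOfLE h).op := Subsingleton.elim _ _
      induction h with
      | refl =>
        rw [show (homOfLE (le_refl b)).op = 𝟙 (op b) from rfl, CategoryTheory.Functor.map_id]
        rfl
      | @step a h ih =>
        rw [show (homOfLE (le_trans h (Nat.le_add_right a 1))).op =
          (homOfLE (Nat.le_add_right a 1)).op ≫ (homOfLE h).op from Subsingleton.elim _ _,
          CategoryTheory.Functor.map_comp_apply]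
        have e : (CohCx.opSequence F t ⋙ Ψ j).map (homOfLE (Nat.le_add_right a 1)).op (x (a + 1)) = x a := by
          rw [Functor.comp_map, Functor.ofOpSequence_map_homOfLE_succ]
          exact hx a
        rw [e]
        exact ih
    exact ⟨(Types.isLimitEquivSections (hlim j)).symm ⟨_, hsec⟩, fun n =>
      Types.isLimitEquivSections_symm_apply (hlim j) ⟨_, hsec⟩ (op n)⟩
  · exact ha U hU k (Or.inl (by omega))
  · exact ha U hU (k + 1) (Or.inr (by omega))
  · have e : k + 1 + 1 - 1 = k + 1 := by omega
    have := hb U hU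
    rw [e] at this
    exact this
  · intro l
    rw [← htr]
    exact hc U hU l

end Groth.Agent.MilnorSh16
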