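import Groth.Prelude.Def_CohCx
import Mathlib.Algebra.Homology.ConcreteCategory
import Mathlib.Algebra.Homology.ShortComplex.Ab

/-! Cohomology of the limit of a tower of complexes of abelian groups. -/

universe u

open CategoryTheory CategoryTheory.Limits Opposite

set_option backward.isDefEq.respectTransparency false
set_option backward.isDefEq.respectTransparency.types false

namespace Groth.Agent.MilnorSh16

section Cls

variable (K : CochainComplex AddCommGrpCat.{u} ℤ)

/-- a cocycle as an element of the cycles -/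
noncomputable def cyc {i : ℤ} (z : K.X i) (hz : K.d i (i + 1) z = 0) : K.cycles i :=
  (K.sc i).abCyclesIso.inv ⟨z, AddMonoidHom.mem_ker.2 (by
    change K.d i ((ComplexShape.up ℤ).next i) z = 0
    rw [CochainComplex.next]
    exact hz)⟩

/-- the class of a cocycle -/
noncomputable def cls {i : ℤ} (z : K.X i) (hz : K.d i (i + 1) z = 0) : K.homology i :=
  K.homologyπ i (cyc K z hz)

lemma iCycles_cyclesMk {i : ℤ} (z : K.X i) (hz : K.d i (i + 1) z = 0) :
    K.iCycles i (cyc K z hz) = z :=
  (K.sc i).abCyclesIso_inv_apply_iCycles _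

lemma iCycles_injective (i : ℤ) : Function.Injective (K.iCycles i) :=
  (AddCommGrpCat.mono_iff_injective _).1 inferInstance

lemma exists_cls {i : ℤ} (h : K.homology i) : ∃ z hz, cls K z hz = h := by
  obtain ⟨c, rfl⟩ := (AddCommGrpCat.epi_iff_surjective (K.homologyπ i)).1 inferInstance h
  refine ⟨K.iCycles i c, ?_, ?_⟩
  · exact ConcreteCategory.congr_hom (K.iCycles_d i (i + 1)) c
  · exact congrArg _ (iCycles_injective K i (iCycles_cyclesMk K _ _))

lemma cls_congr {i : ℤ} {z z' : K.X i} (h : z = z') (hz : K.d i (i + 1) z = 0)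
    (hz' : K.d i (i + 1) z' = 0) : cls K z hz = cls K z' hz' := by
  subst h; rfl

lemma cls_sub {i : ℤ} {z z' : K.X i} (hz : K.d i (i + 1) z = 0) (hz' : K.d i (i + 1) z' = 0) :
    cls K (z - z') (by rw [map_sub, hz, hz', sub_zero]) = cls K z hz - cls K z' hz' := by
  simp only [cls]
  refine Eq.trans ?_ (map_sub (K.homologyπ i).hom _ _)
  refine congrArg _ (iCycles_injective K i ?_)
  refine (iCycles_cyclesMk K _ _).trans (Eq.trans ?_ (map_sub (K.iCycles i).hom _ _).symm)
  exact congrArg₂ (· - ·) (iCycles_cyclesMk K z hz).symm (iCycles_cyclesMk K z' hz').symm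

lemma cls_map {L : CochainComplex AddCommGrpCat.{u} ℤ} (f : K ⟶ L) {i : ℤ} (z : K.X i)
    (hz : K.d i (i + 1) z = 0) :
    HomologicalComplex.homologyMap f i (cls K z hz) = cls L (f.f i z)
      (by rw [← ConcreteCategory.comp_apply, f.comm, ConcreteCategory.comp_apply, hz, map_zero]) := by
  rw [cls, cls, ← ConcreteCategory.comp_apply, HomologicalComplex.homologyπ_naturality,
    ConcreteCategory.comp_apply]
  refine congrArg _ (iCycles_injective L i ?_)
  rw [← ConcreteCategory.comp_apply, HomologicalComplex.cyclesMap_i, ConcreteCategory.comp_apply,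
    iCycles_cyclesMk, iCycles_cyclesMk]

lemma cls_eq_zero_iff {i : ℤ} (z : K.X (i + 1)) (hz : K.d (i + 1) (i + 1 + 1) z = 0) :
    cls K z hz = 0 ↔ ∃ w : K.X i, K.d i (i + 1) w = z := by
  have he : (ShortComplex.mk (K.toCycles i (i + 1)) (K.homologyπ (i + 1)) (by simp)).Exact :=
    ShortComplex.exact_of_g_is_cokernel _ (K.homologyIsCokernel i (i + 1) (by simp))
  constructor
  · intro h
    obtain ⟨w, hw⟩ := ((ShortComplex.ab_exact_iff _).1 he) _ h
    refine ⟨w, ?_⟩
    have := congrArg (K.iCycles (i + 1)) hw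
    rw [iCycles_cyclesMk, ← ConcreteCategory.comp_apply, HomologicalComplex.toCycles_i] at this
    exact this
  · rintro ⟨w, rfl⟩
    have e : cyc K (K.d i (i + 1) w) hz = K.toCycles i (i + 1) w := by
      apply iCycles_injective K
      rw [iCycles_cyclesMk, ← ConcreteCategory.comp_apply, HomologicalComplex.toCycles_i]
    rw [cls, e, ← ConcreteCategory.comp_apply, HomologicalComplex.toCycles_comp_homologyπ]
    rfl

end Cls

variable (A : ℕ → CochainComplex AddCommGrpCat.{u} ℤ) (t : ∀ n, A (n + 1) ⟶ A n)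

/-- the cohomology groups of the tower -/
noncomputable abbrev H (m : ℤ) : ℕᵒᵖ ⥤ AddCommGrpCat.{u} :=
  Functor.ofOpSequence t ⋙ HomologicalComplex.homologyFunctor _ _ m

lemma map_eq_transition (n : ℕ) : ∀ k : ℕ,
    (Functor.ofOpSequence t).map (homOfLE (Nat.le_add_right n k)).op = CohCx.transition A t n k
  | 0 => by
    exact (congrArg _ (Subsingleton.elim _ (𝟙 (op n)))).trans (CategoryTheory.Functor.map_id _ _)
  | k + 1 => by
    rw [show (homOfLE (Nat.le_add_right n (k + 1))).op =
      (homOfLE (Nat.le_add_right (n + k) 1)).op ≫ (homOfLE (Nat.le_add_right n k)).op from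
        Subsingleton.elim _ _, CategoryTheory.Functor.map_comp, Functor.ofOpSequence_map_homOfLE_succ,
      map_eq_transition n k]
    rfl

lemma H_map_trans {m : ℤ} {i j k : ℕ} (h : i ≤ j) (h' : j ≤ k) (x : (A k).homology m) :
    (H A t m).map (homOfLE h).op ((H A t m).map (homOfLE h').op x) =
      (H A t m).map (homOfLE (h.trans h')).op x :=
  ((Functor.map_comp_apply (H A t m) (homOfLE h').op (homOfLE h).op x).symm.trans rfl)

variable {A t}

lemma bijective_map {m : ℤ} {n₀ : ℕ}
    (hc : ∀ k, IsIso (HomologicalComplex.homologyMap (CohCx.transition A t n₀ k) m))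
    {n : ℕ} (h : n₀ ≤ n) : Function.Bijective ((H A t m).map (homOfLE h).op) := by
  obtain ⟨k, rfl⟩ := Nat.exists_eq_add_of_le h
  haveI := hc k
  have : (H A t m).map (homOfLE h).op = HomologicalComplex.homologyMap (CohCx.transition A t n₀ k) m := by
    rw [← map_eq_transition]; rfl
  rw [this]
  exact ConcreteCategory.bijective_of_isIso _

variable (A t) in
lemma H_map_succ {m : ℤ} (n : ℕ) (x : (A (n + 1)).homology m) :
    (H A t m).map (homOfLE (Nat.le_add_right n 1)).op x = HomologicalComplex.homologyMap (t n) m x :=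
  congrArg (fun f : A (n + 1) ⟶ A n => (HomologicalComplex.homologyMap f m).hom x)
    (Functor.ofOpSequence_map_homOfLE_succ t n)

variable {L : CochainComplex AddCommGrpCat.{u} ℤ} (p : ∀ n, L ⟶ A n)

theorem bijective_homologyMap_lim (hp : ∀ n, p (n + 1) ≫ t n = p n)
    (hinj : ∀ (j : ℤ) (x : L.X j), (∀ n, (p n).f j x = 0) → x = 0)
    (hex : ∀ (j : ℤ) (x : ∀ n, (A n).X j), (∀ n, (t n).f j (x (n + 1)) = x n) →
      ∃ y : L.X j, ∀ n, (p n).f j y = x n)
    (k : ℤ) (n₀ : ℕ)
    (ha₂ : CohCx.LimOneIsZero (fun n => (A n).X k) (fun n => ((t n).f k).hom))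
    (ha₁ : CohCx.LimOneIsZero (fun n => (A n).X (k + 1)) (fun n => ((t n).f (k + 1)).hom))
    (hb : CohCx.LimOneIsZero (fun n => (A n).homology (k + 1))
      (fun n => (HomologicalComplex.homologyMap (t n) (k + 1)).hom))
    (hc : ∀ l, IsIso (HomologicalComplex.homologyMap (CohCx.transition A t n₀ l) (k + 1 + 1))) :
    Function.Bijective (HomologicalComplex.homologyMap (p n₀) (k + 1 + 1)) := by
  have dcomm : ∀ (n : ℕ) (i : ℤ) (x : (A (n + 1)).X i),
      (t n).f (i + 1) ((A (n + 1)).d i (i + 1) x) = (A n).d i (i + 1) ((t n).f i x) := fun n i x => by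
    rw [← ConcreteCategory.comp_apply, ← (t n).comm, ConcreteCategory.comp_apply]
  have pcomm : ∀ (n : ℕ) (i : ℤ) (x : L.X i),
      (p n).f (i + 1) (L.d i (i + 1) x) = (A n).d i (i + 1) ((p n).f i x) := fun n i x => by
    rw [← ConcreteCategory.comp_apply, ← (p n).comm, ConcreteCategory.comp_apply]
  have ptr : ∀ (n : ℕ) (i : ℤ) (x : L.X i), (t n).f i ((p (n + 1)).f i x) = (p n).f i x := fun n i x => by
    conv_rhs => rw [← hp n]
    rfl
  have dd : ∀ (n : ℕ) (i : ℤ) (x : (A n).X i),
      (A n).d (i + 1) (i + 1 + 1) ((A n).d i (i + 1) x) = 0 := fun n i x => by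
    rw [← ConcreteCategory.comp_apply, (A n).d_comp_d]; rfl
  have hG : ∀ {i j : ℕ} (h : i ≤ j), (H A t (k + 1 + 1)).map (homOfLE h).op ∘
      HomologicalComplex.homologyMap (p j) (k + 1 + 1) = HomologicalComplex.homologyMap (p i) (k + 1 + 1) := by
    intro i j h
    induction h with
    | refl =>
      funext x
      show (H A t _).map (homOfLE (le_refl i)).op _ = _
      rw [show (homOfLE (le_refl i)).op = 𝟙 (op i) from rfl, CategoryTheory.Functor.map_id]
      rfl
    | @step j h ih =>
      funext x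
      show (H A t _).map (homOfLE (le_trans h (Nat.le_add_right j 1))).op _ = _
      rw [← H_map_trans A t h (Nat.le_add_right j 1), H_map_succ, ← ConcreteCategory.comp_apply
        (HomologicalComplex.homologyMap (p (j + 1)) _), ← HomologicalComplex.homologyMap_comp, hp]
      exact congrFun ih x
  constructor
  · rw [injective_iff_map_eq_zero]
    intro h hh
    obtain ⟨z, hz, rfl⟩ := exists_cls L h
    have hzn : ∀ n, HomologicalComplex.homologyMap (p n) (k + 1 + 1) (cls L z hz) = 0 := fun n => by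
      rw [← congrFun (hG (le_max_left n n₀)) _]
      have h0 : HomologicalComplex.homologyMap (p (max n n₀)) (k + 1 + 1) (cls L z hz) = 0 := by
        apply (bijective_map hc (le_max_right n n₀)).1
        rw [map_zero]
        exact (congrFun (hG (le_max_right n n₀)) _).trans hh
      show (H A t _).map _ (HomologicalComplex.homologyMap (p (max n n₀)) (k + 1 + 1) (cls L z hz)) = 0
      rw [h0, map_zero]
    choose w hw using fun n => (cls_eq_zero_iff (A n) _ _).1 ((cls_map L (p n) z hz).symm.trans (hzn n))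
    have hc' : ∀ n, (A n).d (k + 1) (k + 1 + 1) (w n - (t n).f (k + 1) (w (n + 1))) = 0 := fun n => by
      rw [map_sub, ← dcomm, hw, hw, ptr, sub_self]
    obtain ⟨a, ha⟩ := hb fun n => cls (A n) _ (hc' n)
    choose b hb' hab using fun n => exists_cls (A n) (a n)
    have htb : ∀ n, (A n).d (k + 1) (k + 1 + 1) ((t n).f (k + 1) (b (n + 1))) = 0 := fun n => by
      rw [← dcomm, hb', map_zero]
    have hab2 : ∀ n, cls (A n) ((t n).f (k + 1) (b (n + 1))) (htb n) =
        HomologicalComplex.homologyMap (t n) (k + 1) (a (n + 1)) := fun n => by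
      rw [← hab (n + 1), cls_map]
    have hbd : ∀ n, (A n).d (k + 1) (k + 1 + 1) (b n - (t n).f (k + 1) (b (n + 1))) = 0 := fun n => by
      rw [map_sub, hb', htb, sub_zero]
    have h0 : ∀ n, cls (A n) ((w n - (t n).f (k + 1) (w (n + 1))) - (b n - (t n).f (k + 1) (b (n + 1))))
        (by rw [map_sub, hc', hbd, sub_zero]) = 0 := fun n => by
      rw [cls_sub _ (hc' n) (hbd n), cls_sub _ (hb' n) (htb n), hab, hab2, sub_eq_zero]
      exact (congrFun ha n).symm
    choose e he using fun n => (cls_eq_zero_iff (A n) _ _).1 (h0 n)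
    obtain ⟨f, hf⟩ := ha₂ e
    obtain ⟨y, hy⟩ := hex (k + 1) (fun n => w n - b n - (A n).d k (k + 1) (f n)) fun n => by
      have e1 : (A n).d k (k + 1) (f n) - (A n).d k (k + 1) ((t n).f k (f (n + 1))) =
          (w n - (t n).f (k + 1) (w (n + 1))) - (b n - (t n).f (k + 1) (b (n + 1))) := by
        rw [← map_sub, ← he n]
        exact congrArg _ (congrFun hf n)
      rw [map_sub, map_sub, dcomm, eq_sub_of_add_eq' (eq_add_of_sub_eq e1).symm]
      abel
    refine (cls_eq_zero_iff L _ _).2 ⟨y, sub_eq_zero.1 (hinj _ _ fun n => ?_)⟩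
    rw [map_sub, pcomm, hy, map_sub, map_sub, hw, hb', dd, sub_zero, sub_zero, sub_self]
  · intro ξ₀
    have hηex : ∀ n, ∃ η, (H A t (k + 1 + 1)).map (homOfLE (Nat.le_add_right n₀ n)).op η = ξ₀ :=
      fun n => (bijective_map hc (Nat.le_add_right n₀ n)).2 ξ₀
    choose η hη using hηex
    let ξ : ∀ n, (A n).homology (k + 1 + 1) := fun n =>
      (H A t (k + 1 + 1)).map (homOfLE (Nat.le_add_left n n₀)).op (η n)
    have hcompat : ∀ n, HomologicalComplex.homologyMap (t n) (k + 1 + 1) (ξ (n + 1)) = ξ n := fun n => by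
      have : η n = (H A t (k + 1 + 1)).map (homOfLE (show n₀ + n ≤ n₀ + (n + 1) by omega)).op (η (n + 1)) := by
        apply (bijective_map hc (Nat.le_add_right n₀ n)).1
        rw [H_map_trans, hη, hη]
      rw [← H_map_succ]
      show (H A t _).map _ ((H A t _).map _ (η (n + 1))) = (H A t _).map _ (η n)
      rw [this, H_map_trans, H_map_trans]
    have hξ0 : ξ n₀ = ξ₀ := by
      show (H A t _).map _ (η n₀) = ξ₀
      rw [← hη n₀]
    choose z hz hzξ using fun n => exists_cls (A n) (ξ n)
    have htz : ∀ n, (A n).d (k + 1 + 1) (k + 1 + 1 + 1) ((t n).f (k + 1 + 1) (z (n + 1))) = 0 := fun n => by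
      rw [← dcomm, hz, map_zero]
    have h0 : ∀ n, cls (A n) (z n - (t n).f (k + 1 + 1) (z (n + 1)))
        (by rw [map_sub, hz, htz, sub_zero]) = 0 := fun n => by
      rw [cls_sub _ (hz n) (htz n), ← cls_map _ (t n) _ (hz (n + 1)), hzξ, hzξ, hcompat, sub_self]
    choose e he using fun n => (cls_eq_zero_iff (A n) _ _).1 (h0 n)
    obtain ⟨f, hf⟩ := ha₁ e
    obtain ⟨y, hy⟩ := hex (k + 1 + 1) (fun n => z n - (A n).d (k + 1) (k + 1 + 1) (f n)) fun n => by
      have e1 : (A n).d (k + 1) (k + 1 + 1) (f n) -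
          (A n).d (k + 1) (k + 1 + 1) ((t n).f (k + 1) (f (n + 1))) =
          z n - (t n).f (k + 1 + 1) (z (n + 1)) := by
        rw [← map_sub, ← he n]
        exact congrArg _ (congrFun hf n)
      rw [map_sub, dcomm, eq_sub_of_add_eq' (eq_add_of_sub_eq e1).symm]
      abel
    have hy0 : L.d (k + 1 + 1) (k + 1 + 1 + 1) y = 0 := hinj _ _ fun n => by
      rw [pcomm, hy, map_sub, hz, dd, sub_zero]
    refine ⟨cls L y hy0, ?_⟩
    rw [cls_map, ← hξ0, ← hzξ n₀]
    have hd : (A n₀).d (k + 1 + 1) (k + 1 + 1 + 1) ((A n₀).d (k + 1) (k + 1 + 1) (f n₀)) = 0 := dd _ _ _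
    refine (cls_congr _ (hy n₀) _ (by rw [map_sub, hz, hd, sub_zero])).trans ?_
    rw [cls_sub _ (hz n₀) hd, (cls_eq_zero_iff (A n₀) _ hd).2 ⟨_, rfl⟩, sub_zero]

end Groth.Agent.MilnorSh16
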